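import Cfsg.Agent.H0.TC
set_option maxRecDepth 100000
namespace H0.TCJ2p0
open H0
noncomputable def r0 : TC.WTr := (.node (.node (.node (.node (.node (.node (.leaf [0] 0 0 false) (.leaf [7] 6 0 false)) (.node (.leaf [3, 3, 3, 3, 3, 3] 21 0 false) (.leaf [9, 2, 3, 5, 8, 3, 5, 0, 2] 61 7 true))) (.node (.node (.leaf [2] 1 0 false) (.leaf [9] 8 0 false)) (.leaf [7, 11, 5, 11, 9, 6] 33 4 false))) (.node (.node (.node (.leaf [0] 0 0 false) (.leaf [6] 6 1 false)) (.node (.leaf [10, 5, 2, 4, 10, 5, 10, 2] 56 5 true) (.leaf [8, 7, 9, 10, 6] 19 2 true))) (.node (.node (.leaf [1] 1 1 false) (.leaf [6, 9, 11, 6] 15 1 false)) (.leaf [3, 2, 7, 11, 5, 4, 8, 1, 5] 62 7 true)))) (.node (.node (.node (.node (.leaf [5, 9, 6, 0, 3, 3, 6, 11, 8] 65 5 true) (.leaf [8, 7, 10, 8] 15 2 true)) (.node (.leaf [4] 3 0 false) (.leaf [11] 10 0 false))) (.node (.node (.leaf [9, 3, 5, 10, 6, 1, 4, 7, 5]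 62 4 false) (.leaf [7, 10, 7, 7, 10] 20 0 false)) (.leaf [11, 5, 6, 0, 1, 9, 2, 0] 57 5 false))) (.node (.node (.node (.leaf [6, 11, 5, 1, 6, 11, 5] 48 0 false) (.leaf [7, 10, 8, 7] 15 3 true)) (.node (.leaf [3] 3 1 false) (.leaf [10] 10 1 false))) (.node (.node (.leaf [0, 2, 0, 1] 38 0 true) (.leaf [8] 8 1 false)) (.leaf [0, 7, 5, 6, 0, 7, 5] 47 3 false))))) (.node (.node (.node (.node (.node (.leaf [8, 3, 10, 0, 3, 11, 4, 9] 51 0 false) (.leaf [3, 5, 6, 5, 4] 27 0 true)) (.node (.leaf [2, 0, 7, 3, 3, 0, 2, 7] 58 3 false) (.leaf [7, 11, 8, 6, 9] 19 3 false))) (.node (.node (.leaf [2] 1 0 false) (.leaf [9] 8 0 false)) (.leaf [4, 7, 3, 5, 6] 27 4 true))) (.node (.node (.node (.leaf [3, 5, 4, 2, 6, 6] 44 2 true) (.leaf [9] 8 0 false)) (.node (.leaf [4, 7, 8, 4, 8, 7] 31 3 false) (.leaf [2, 5, 11, 5, 4, 10, 1] 45 6 true))) (.node (.node (.leaf [1] 1 1 false) (.leaf [8] 8 1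 false)) (.leaf [8, 11, 6, 6, 11] 20 4 true)))) (.node (.node (.node (.node (.leaf [8, 3, 10, 4, 0, 11, 4, 9] 51 8 true) (.leaf [10, 7, 7, 10, 9] 20 1 false)) (.node (.leaf [8, 7, 4, 4, 7, 8] 31 0 false) (.leaf [11, 11] 12 0 true))) (.node (.node (.leaf [11, 3, 5, 10, 5, 1, 10] 45 2 false) (.leaf [5, 10, 9, 11, 7, 5] 28 1 false)) (.leaf [3, 9, 5, 1, 8, 2, 9, 2] 55 5 false))) (.node (.node (.node (.leaf [2] 1 0 false) (.leaf [7, 9, 10, 6, 11] 19 3 true)) (.node (.leaf [3] 3 1 false) (.leaf [10] 10 1 false))) (.node (.node (.leaf [1, 11, 5, 11, 3, 1, 5, 11] 56 3 false) (.leaf [4, 11, 5, 4, 7, 10, 3] 36 3 true)) (.leaf [7] 6 0 false))))))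
noncomputable def r1 : TC.WTr := (.node (.node (.node (.node (.node (.node (.leaf [9, 1, 6, 8, 11, 5, 2, 11] 52 6 true) (.leaf [1, 4, 6, 4, 4, 2] 43 1 false)) (.node (.leaf [6, 4, 5, 6, 5, 8] 34 1 true) (.leaf [0, 3, 11, 4, 9, 0, 8, 3] 51 3 false))) (.node (.node (.leaf [2] 1 0 false) (.leaf [9] 8 0 false)) (.leaf [7, 8, 10, 5, 10, 6] 33 2 true))) (.node (.node (.node (.leaf [0] 0 0 false) (.leaf [6] 6 1 false)) (.node (.leaf [6, 1, 0, 4, 4, 6, 0, 1] 58 5 true) (.leaf [9, 6, 5, 7, 11, 5] 33 1 false))) (.node (.node (.leaf [1] 1 1 false) (.leaf [0, 8, 3, 11, 4, 0, 10, 0] 54 3 false)) (.leaf [0, 1, 4, 6, 1, 0, 4, 4] 58 2 true)))) (.node (.node (.node (.node (.leaf [7, 5, 10, 5, 0, 1, 8, 2] 57 8 true) (.leaf [9, 7, 4, 7, 9, 7, 4] 35 0 true)) (.node (.leaf [3] 3 1 false) (.leaf [11] 10 0 false))) (.node (.node (.leaf [11, 0, 9, 1, 6, 8, 11, 5] 52 4 true) (.leaf [11, 6, 9, 6]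 15 3 false)) (.leaf [10, 6, 5, 7, 8, 10] 33 6 true))) (.node (.node (.node (.leaf [10, 2, 11, 3, 5, 10, 5] 45 0 false) (.leaf [11, 6, 6, 11, 6] 20 5 true)) (.node (.leaf [3] 3 1 false) (.leaf [10] 10 1 false))) (.node (.node (.leaf [5, 10, 3, 11, 4, 11, 6] 36 0 false) (.leaf [7, 4, 4, 0, 7, 8, 5, 0, 9] 65 6 false)) (.leaf [4, 10, 8, 11, 4, 10] 29 2 false))))) (.node (.node (.node (.node (.node (.leaf [5, 10, 9, 5, 0, 8, 5, 9, 3] 70 4 true) (.leaf [7, 7, 7] 13 0 true)) (.node (.leaf [6, 3, 8, 7, 3, 10] 32 4 true) (.leaf [11] 10 0 false))) (.node (.node (.leaf [9, 2, 5, 3, 9, 5, 1, 8] 55 2 false) (.leaf [9] 8 0 false)) (.leaf [8, 3, 6, 4, 5, 6] 34 6 true))) (.node (.node (.node (.leaf [6, 8, 11, 5, 2, 11, 0, 9] 52 8 true) (.leaf [5, 6, 10, 8, 11, 5] 28 5 true)) (.node (.leaf [7, 4, 11, 4, 6, 9] 32 0 false) (.leaf [6, 9, 6, 9] 15 4 false))) (.node (.node (.leaf [1] 1 1 false)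 (.leaf [8] 8 1 false)) (.leaf [11, 6, 8, 11, 6] 20 2 true)))) (.node (.node (.node (.node (.leaf [0] 0 0 false) (.leaf [6] 6 1 false)) (.node (.leaf [4, 5, 4, 4, 9, 4, 5, 4] 23 3 false) (.leaf [9, 3, 5, 4, 5, 7] 30 1 true))) (.node (.node (.leaf [11, 4, 7, 9, 4, 2, 9, 5, 6] 64 4 false) (.leaf [10, 6, 11, 8, 7] 19 5 true)) (.leaf [8, 4, 5, 1, 8, 1, 9, 2] 55 0 true))) (.node (.node (.node (.leaf [2] 1 0 false) (.leaf [9] 8 0 false)) (.leaf [4, 2, 7, 7, 1, 3] 44 2 false)) (.node (.node (.leaf [7, 4, 9, 5, 7, 5] 34 3 false) (.leaf [8, 7, 8, 7] 15 0 true)) (.leaf [7] 6 0 false))))))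
noncomputable def r2 : TC.WTr := (.node (.node (.node (.node (.node (.node (.leaf [9, 0, 8, 3, 11, 4, 0, 10] 54 2 false) (.leaf [7] 6 0 false)) (.node (.leaf [6, 2, 4, 6, 6, 2, 5, 11, 7] 60 8 false) (.leaf [6, 5, 3, 5, 4, 8] 30 5 false))) (.node (.node (.leaf [2] 1 0 false) (.leaf [9] 8 0 false)) (.leaf [9, 5, 10, 9, 11, 7] 28 0 false))) (.node (.node (.node (.leaf [0] 0 0 false) (.leaf [6] 6 1 false)) (.node (.leaf [7, 3, 5, 6, 5] 27 5 true) (.leaf [5, 4, 10, 1, 11, 2, 5] 45 1 true))) (.node (.node (.leaf [1] 1 1 false) (.leaf [5, 7, 5, 3, 7, 4] 34 6 false)) (.leaf [6, 6, 6] 13 0 false)))) (.node (.node (.node (.node (.leaf [9, 10, 7, 4, 4, 0, 7, 8, 5] 65 4 false) (.leaf [5, 4, 6, 3, 5] 27 2 false)) (.node (.leaf [4] 3 0 false) (.leaf [11] 10 0 false))) (.node (.node (.leaf [8, 0, 10, 1, 5, 10, 9, 7] 52 0 false) (.leaf [4, 7, 4, 11, 4, 6] 32 6 false)) (.leaf [0, 10, 3,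 11, 1, 8, 4, 0] 67 7 true))) (.node (.node (.node (.leaf [4, 6, 4, 4, 2, 7] 43 2 false) (.leaf [2, 8, 2, 8, 2] 46 1 false)) (.node (.leaf [3] 3 1 false) (.leaf [10] 10 1 false))) (.node (.node (.leaf [5, 6, 5, 4, 7] 27 1 true) (.leaf [11] 10 0 false)) (.leaf [11, 8, 7, 9, 10] 19 1 true))))) (.node (.node (.node (.node (.node (.leaf [5, 3, 9, 3, 11, 0, 10, 7, 10] 63 9 true) (.leaf [3, 2, 6, 1, 3, 3] 43 2 true)) (.node (.leaf [5, 0, 10, 3, 11, 1, 8, 0] 68 3 false) (.leaf [11] 10 0 false))) (.node (.node (.leaf [1] 1 1 false) (.leaf [9] 8 0 false)) (.leaf [8, 5, 6, 10, 8, 11] 28 4 true))) (.node (.node (.node (.leaf [9, 1, 9, 1, 9] 46 1 true) (.leaf [6, 9, 10, 7, 11] 19 0 false)) (.node (.leaf [6, 9, 4, 7, 4, 11] 32 4 false) (.leaf [0, 3, 10, 4, 9, 0, 8, 0] 54 7 true))) (.node (.node (.leaf [1] 1 1 false) (.leaf [8] 8 1 false)) (.leaf [6, 11, 6, 8, 11] 20 1 true)))) (.node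 (.node (.node (.node (.leaf [0] 0 0 false) (.leaf [6] 6 1 false)) (.node (.leaf [6, 3, 5, 7, 5] 27 4 false) (.leaf [4, 10, 2, 9, 7, 4, 1, 9] 50 1 true))) (.node (.node (.leaf [5, 11, 7, 3, 6, 2, 4, 6, 6] 60 4 false) (.leaf [3, 5, 4, 5, 7, 11] 30 2 true)) (.leaf [0, 3, 9, 2, 10, 4, 11, 0] 67 1 false))) (.node (.node (.node (.leaf [2] 1 0 false) (.leaf [3, 10, 0, 3, 11, 4, 9, 0] 51 1 false)) (.node (.leaf [6, 0, 7, 5, 6, 0, 7] 47 2 false) (.leaf [10] 10 1 false))) (.node (.node (.leaf [10, 3, 6, 3, 8, 7] 32 2 true) (.leaf [10, 10] 12 0 false)) (.leaf [7] 6 0 false))))))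
noncomputable def r3 : TC.WTr := (.node (.node (.node (.node (.node (.node (.leaf [5, 8, 11, 5, 0, 4, 8, 5, 9] 70 0 false) (.leaf [11, 8, 6, 9, 10] 19 4 false)) (.node (.leaf [5, 4, 2, 7, 7, 1] 44 1 false) (.leaf [9, 11, 3, 7, 11, 3] 29 0 true))) (.node (.node (.leaf [2] 1 0 false) (.leaf [9] 8 0 false)) (.leaf [1, 0, 2, 0, 1, 0, 1, 0, 1, 0, 1, 0, 2, 0, 2] 39 0 true))) (.node (.node (.node (.leaf [8, 2, 9, 2, 5, 3, 9, 5] 55 0 false) (.leaf [6] 6 1 false)) (.node (.leaf [0, 11, 4, 9, 0, 8, 3, 10] 51 3 true) (.leaf [3, 10, 8, 2, 3, 6, 8, 1] 50 5 false))) (.node (.node (.leaf [1] 1 1 false) (.leaf [2, 10, 4, 9, 1, 6, 4, 7] 49 8 false)) (.leaf [9, 6, 9, 11] 15 0 false)))) (.node (.node (.node (.node (.leaf [3, 10, 4, 9, 0, 8, 0, 11] 54 8 true) (.leaf [3, 5, 3, 5, 3, 5] 22 6 false)) (.node (.leaf [2, 0, 1, 0] 38 4 false) (.leaf [11] 10 0 false))) (.node (.node (.leaf [5, 3, 3,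 1, 3, 6, 10, 5, 9] 59 5 true) (.leaf [2, 5, 3, 9, 5, 1, 8, 2] 55 3 false)) (.leaf [4, 5, 7, 11, 9, 3] 30 4 true))) (.node (.node (.node (.leaf [2] 1 0 false) (.leaf [3, 11, 1, 8, 6, 3, 7, 2] 49 5 true)) (.node (.leaf [3] 3 1 false) (.leaf [10] 10 1 false))) (.node (.node (.leaf [8, 7, 3, 10, 3, 6] 32 6 true) (.leaf [7, 2, 5, 10, 7, 2, 5] 48 1 true)) (.leaf [7] 6 0 false))))) (.node (.node (.node (.node (.node (.leaf [7, 5, 6, 0, 7, 5, 6] 47 0 false) (.leaf [5, 6, 0, 7, 5, 6, 0] 47 1 false)) (.node (.leaf [9, 3, 9, 3, 9] 26 1 true) (.leaf [11] 10 0 false))) (.node (.node (.leaf [8, 2, 8, 2, 8] 46 0 false) (.leaf [2, 0, 5, 11, 5, 6, 0, 1] 57 2 false)) (.leaf [1, 7, 7, 3, 1, 7, 4, 6, 10] 60 4 true))) (.node (.node (.node (.leaf [6, 4, 7, 9, 2, 10, 4, 9] 49 4 false) (.leaf [11, 5, 2, 11, 0, 9, 1, 6] 52 1 true)) (.node (.leaf [3] 3 1 false) (.leaf [5, 1, 6, 11, 5, 1, 6] 48 2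 false))) (.node (.node (.leaf [1] 1 1 false) (.leaf [8] 8 1 false)) (.leaf [9, 10, 7, 11, 8] 19 1 false)))) (.node (.node (.node (.node (.leaf [0] 0 0 false) (.leaf [6] 6 1 false)) (.node (.leaf [9, 5, 7, 5, 3, 7] 34 5 false) (.leaf [5, 4, 7, 10, 3, 10, 4] 36 5 true))) (.node (.node (.leaf [1] 1 1 false) (.leaf [3, 11, 0, 10, 7, 10, 0, 5, 3] 63 2 true)) (.leaf [7] 6 0 false))) (.node (.node (.node (.leaf [2] 1 0 false) (.leaf [9] 8 0 false)) (.leaf [3, 7, 4, 9, 5, 7] 34 2 false)) (.node (.node (.leaf [7, 11, 3, 10, 9, 11] 29 3 true) (.leaf [9, 7, 10, 7, 7] 20 5 false)) (.leaf [7] 6 0 false))))))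
noncomputable def r4 : TC.WTr := (.node (.node (.node (.node (.node (.node (.leaf [1, 3, 0, 2] 38 3 true) (.leaf [7] 6 0 false)) (.node (.leaf [6, 8, 1, 11, 3, 10, 8, 2] 50 1 false) (.leaf [1, 11, 2, 5, 11, 5, 4] 45 4 true))) (.node (.node (.leaf [2] 1 0 false) (.leaf [9] 8 0 false)) (.leaf [11, 9, 6, 5, 7, 11] 33 0 false))) (.node (.node (.node (.leaf [0] 0 0 false) (.leaf [6] 6 1 false)) (.node (.leaf [6, 4, 4, 2, 7, 1] 43 3 false) (.leaf [3, 5, 10, 5, 1, 10, 2] 45 3 false))) (.node (.node (.leaf [1] 1 1 false) (.leaf [7, 4, 1, 9, 11, 4, 10, 2] 50 5 true)) (.leaf [6, 2, 5, 11, 7, 3, 6, 2, 4] 60 2 false)))) (.node (.node (.node (.node (.leaf [4, 2, 0, 1] 38 3 false) (.leaf [4, 6, 10, 5, 1, 7, 7, 3, 1] 60 0 true)) (.node (.leaf [4] 3 0 false) (.leaf [11] 10 0 false))) (.node (.node (.leaf [5, 3, 9, 5, 1, 8, 2, 9] 55 4 false) (.leaf [5, 2, 11, 6, 3, 11, 0, 5, 1] 69 3 false))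 (.leaf [11, 5, 4, 10, 1, 11, 2] 45 0 true))) (.node (.node (.node (.leaf [5, 11, 3, 1, 11, 5, 11, 3] 56 0 false) (.leaf [7, 8, 7, 10] 15 1 true)) (.node (.leaf [3] 3 1 false) (.leaf [10] 10 1 false))) (.node (.node (.leaf [3, 1, 3, 6, 10, 5, 9, 2, 5] 59 7 true) (.leaf [8] 8 1 false)) (.leaf [11, 5, 1, 6, 11, 5, 1] 48 1 false))))) (.node (.node (.node (.node (.node (.leaf [11, 4, 9, 0, 8, 3, 10, 4] 51 4 true) (.leaf [10, 0, 5, 3, 9, 3, 11, 0, 10] 63 7 true)) (.node (.leaf [9, 4, 1, 3, 8, 5, 9, 2] 53 1 false) (.leaf [1, 5, 10, 9, 7, 2, 8, 0] 52 3 false))) (.node (.node (.leaf [2] 1 0 false) (.leaf [9] 8 0 false)) (.leaf [6, 5, 4, 7, 3] 27 2 true))) (.node (.node (.node (.leaf [5, 10, 9, 7, 2, 8, 0, 10] 52 4 false) (.leaf [5, 0, 9, 10, 7, 4, 4, 0, 7] 65 2 false)) (.node (.leaf [8, 4, 5, 0, 11, 6, 11, 0, 10] 63 6 false) (.leaf [6, 6, 11, 6, 8] 20 0 true))) (.node (.node (.leaf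 [1] 1 1 false) (.leaf [8] 8 1 false)) (.leaf [2, 5, 11, 7, 3, 6, 2, 4, 6] 60 3 false)))) (.node (.node (.node (.node (.leaf [0] 0 0 false) (.leaf [4, 4, 0, 7, 8, 5, 0, 9, 10] 65 7 false)) (.node (.leaf [9, 5, 4, 1, 8, 11, 1, 0, 5] 61 6 false) (.leaf [1, 0, 5, 4, 9, 5, 4, 1, 8] 61 2 false))) (.node (.node (.leaf [9, 7, 4, 1, 9, 11, 4, 10] 50 4 true) (.leaf [11, 7, 5, 9, 5, 10] 28 4 false)) (.leaf [7, 5, 4, 6, 3] 27 1 false))) (.node (.node (.node (.leaf [2] 1 0 false) (.leaf [3, 3, 5, 3, 3, 3, 5, 3] 23 0 true)) (.node (.leaf [5] 5 0 false) (.leaf [10] 10 1 false))) (.node (.node (.leaf [5, 10, 5, 1, 10, 2, 11] 45 4 false) (.leaf [6, 4, 10, 8, 11, 4] 29 1 false)) (.leaf [7] 6 0 false))))))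
noncomputable def r5 : TC.WTr := (.node (.node (.node (.node (.node (.node (.leaf [9, 2, 10, 4, 11, 0, 5, 4] 68 6 true) (.leaf [4, 1, 9, 11, 4, 10, 2, 9] 50 6 true)) (.node (.leaf [10, 4, 11, 5, 4, 7, 10] 36 2 true) (.leaf [9, 11, 7, 5, 9, 5] 28 3 false))) (.node (.node (.leaf [2] 1 0 false) (.leaf [9] 8 0 false)) (.leaf [3, 5, 3, 5, 7, 3] 22 1 false))) (.node (.node (.node (.leaf [2] 1 0 false) (.leaf [6] 6 1 false)) (.node (.leaf [6, 6, 2, 5, 11, 7, 3, 6, 2] 60 1 false) (.leaf [8, 6, 9, 10, 7] 19 5 false))) (.node (.node (.leaf [1] 1 1 false) (.leaf [3, 0, 5, 10, 9, 5, 0, 8, 5] 70 2 true)) (.leaf [5, 4, 5, 4, 5, 4] 22 0 true)))) (.node (.node (.node (.node (.leaf [10, 1, 5, 10, 9, 7, 2, 8] 52 2 false) (.leaf [2, 8, 3, 11, 1, 8, 6, 3] 49 3 true)) (.node (.leaf [9, 0, 8, 3, 10, 0, 3, 11] 51 7 false) (.leaf [11] 10 0 false))) (.node (.node (.leaf [0, 1, 3, 0] 38 2 true) (.leaf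 [5, 6, 2, 11, 4, 7, 9, 4, 2] 64 1 false)) (.leaf [6, 10, 8, 11, 5, 8] 28 6 true))) (.node (.node (.node (.leaf [8, 6, 3, 7, 2, 8, 3, 11] 49 8 true) (.leaf [10, 5, 10, 6, 5, 7] 33 4 true)) (.node (.leaf [3] 3 1 false) (.leaf [10] 10 1 false))) (.node (.node (.leaf [10, 9, 11, 3, 7, 11] 29 6 true) (.leaf [5, 10, 2, 4, 10, 5, 2, 4] 56 1 true)) (.leaf [9, 11, 6, 9] 15 2 false))))) (.node (.node (.node (.node (.node (.leaf [1, 0, 4, 2] 38 1 false) (.leaf [5, 9, 5, 10, 9, 11] 28 6 false)) (.node (.leaf [11, 4, 9, 0, 8, 3, 10, 0] 51 5 false) (.leaf [11] 10 0 false))) (.node (.node (.leaf [0, 1, 0, 4] 38 0 false) (.leaf [8] 8 1 false)) (.leaf [10, 7, 2, 5, 10, 7, 2] 48 0 true))) (.node (.node (.node (.leaf [0, 4, 2, 0] 38 2 false) (.leaf [8, 8, 8] 14 0 false)) (.node (.leaf [5, 6, 5, 8, 3, 6] 34 3 true) (.leaf [4, 9, 0, 8, 3, 10, 4, 0] 51 5 true))) (.node (.node (.leaf [1] 1 1 false)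 (.leaf [8] 8 1 false)) (.leaf [8, 11, 5, 2, 11, 0, 9, 1] 52 0 true)))) (.node (.node (.node (.node (.leaf [0] 0 0 false) (.leaf [6] 6 1 false)) (.node (.leaf [8, 10, 6, 5, 3, 5] 30 3 false) (.leaf [5, 0, 4, 8, 5, 9, 0, 5, 8] 70 3 false))) (.node (.node (.leaf [1] 1 1 false) (.leaf [2, 3, 9, 4, 1, 3, 8, 5] 53 8 false)) (.leaf [3, 5, 4, 8, 10, 6] 30 0 false))) (.node (.node (.node (.leaf [2] 1 0 false) (.leaf [9] 8 0 false)) (.leaf [6, 2, 11, 4, 7, 9, 4, 2, 9] 64 2 false)) (.node (.node (.leaf [5, 3, 3, 3, 5, 3, 8, 3] 23 2 true) (.leaf [8, 11, 5, 8, 5, 6] 28 1 true)) (.leaf [7] 6 0 false))))))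
noncomputable def r6 : TC.WTr := (.node (.node (.node (.node (.node (.node (.leaf [2, 0, 1, 3] 38 1 true) (.leaf [6] 6 1 false)) (.node (.leaf [3, 0, 2, 7, 3, 2, 0, 7] 58 7 false) (.leaf [4, 9, 1, 6, 4, 7, 9, 2] 49 1 false))) (.node (.node (.leaf [2] 1 0 false) (.leaf [9] 8 0 false)) (.leaf [6, 0, 1, 9, 2, 0, 5, 11] 57 7 false))) (.node (.node (.node (.leaf [0] 0 0 false) (.leaf [6] 6 1 false)) (.node (.leaf [5, 1, 8, 1, 9, 2, 5, 8] 55 2 true) (.leaf [4, 11, 6, 3, 5, 10, 3] 36 4 false))) (.node (.node (.leaf [1] 1 1 false) (.leaf [1, 6, 8, 11, 5, 2, 11, 0] 52 7 true)) (.leaf [2, 0, 5, 6, 4, 4, 5, 2, 8] 66 2 false)))) (.node (.node (.node (.node (.leaf [10, 0, 9, 0, 8, 3, 11, 4] 54 0 false) (.leaf [7, 3, 1, 7, 4, 6, 10, 5, 1] 60 6 true)) (.node (.leaf [4] 3 0 false) (.leaf [11] 10 0 false))) (.node (.node (.leaf [6, 1, 3, 3, 7, 3] 43 4 true) (.leaf [6, 3, 3, 6, 9, 3] 31 0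 true)) (.leaf [8, 1, 3, 8, 6, 3, 10, 1, 7] 64 7 true))) (.node (.node (.node (.leaf [8, 2, 0, 7, 5, 10, 5, 0] 57 5 true) (.leaf [2, 9, 2, 5, 3, 9, 5, 1] 55 1 false)) (.node (.leaf [3] 3 1 false) (.leaf [10] 10 1 false))) (.node (.node (.leaf [5, 7, 5, 4, 6] 27 0 false) (.leaf [2, 11, 3, 5, 10, 5, 1] 45 1 false)) (.leaf [9, 3, 9, 6, 3, 3] 31 4 true))))) (.node (.node (.node (.node (.node (.leaf [2, 10, 9, 2, 3, 5, 8, 3, 5] 61 5 true) (.leaf [7, 10, 9, 7, 10] 20 3 false)) (.node (.leaf [5, 7, 3, 5, 3, 5] 22 4 false) (.leaf [11] 10 0 false))) (.node (.node (.leaf [2, 2] 37 0 true) (.leaf [9] 8 0 false)) (.leaf [3, 3, 7, 5, 0, 1, 7, 9, 1] 66 0 true))) (.node (.node (.node (.leaf [3, 3, 7, 3, 2, 6] 43 6 true) (.leaf [3, 10, 4, 0, 11, 4, 9, 0] 51 0 true)) (.node (.leaf [11, 5, 4, 7, 10, 3, 10] 36 4 true) (.leaf [6, 8, 11, 6, 6] 20 3 true))) (.node (.node (.leaf [1] 1 1 false)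 (.leaf [8] 8 1 false)) (.leaf [1, 3, 3, 7, 3, 2] 43 5 true)))) (.node (.node (.node (.node (.leaf [0] 0 0 false) (.leaf [6] 6 1 false)) (.node (.leaf [10, 8, 11, 4, 10, 6] 29 3 false) (.leaf [7, 5, 9, 5, 10, 9] 28 5 false))) (.node (.node (.leaf [3, 9, 4, 1, 3, 8, 5, 9] 53 0 false) (.leaf [1, 9, 1, 9, 1] 46 0 true)) (.leaf [10, 9, 11, 7, 5, 9] 28 2 false))) (.node (.node (.node (.leaf [2] 1 0 false) (.leaf [9] 8 0 false)) (.node (.leaf [9, 0, 5, 8, 11, 5, 0, 4, 8] 70 8 false) (.leaf [10] 10 1 false))) (.node (.node (.leaf [3, 6, 11, 8, 0, 5, 9, 6, 0] 65 0 true) (.leaf [3, 11, 1, 8, 4, 0, 5, 0] 67 0 true)) (.leaf [7] 6 0 false))))))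
noncomputable def r7 : TC.WTr := (.node (.node (.node (.node (.node (.node (.leaf [7, 3, 3, 0, 2, 7, 3, 2] 58 5 false) (.leaf [10, 8, 7, 8] 15 4 true)) (.node (.leaf [10, 4, 9, 0, 8, 0, 11, 0] 54 0 true) (.leaf [4, 8, 4, 5, 0, 11, 6, 11, 0] 63 5 false))) (.node (.node (.leaf [2] 1 0 false) (.leaf [9] 8 0 false)) (.leaf [7, 11, 9, 3, 5, 4] 30 6 true))) (.node (.node (.node (.leaf [1, 1] 37 0 false) (.leaf [6] 6 1 false)) (.node (.leaf [5, 4, 6, 5, 4, 5] 22 4 true) (.leaf [6, 11, 0, 10, 4, 8, 4, 5, 0] 63 1 false))) (.node (.node (.leaf [1] 1 1 false) (.leaf [8] 8 1 false)) (.leaf [4, 5, 6, 5, 8, 3] 34 2 true)))) (.node (.node (.node (.node (.leaf [3, 11, 4, 9, 0, 8, 3, 10] 51 4 false) (.leaf [11, 3, 10, 9, 11, 3] 29 4 true)) (.node (.leaf [9, 1, 6, 4, 7, 9, 2, 10] 49 2 false) (.leaf [10] 10 1 false))) (.node (.node (.leaf [4, 10, 5, 10, 2, 4, 10, 5] 56 8 true) (.leaf [3, 9,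 3, 9, 3] 26 0 true)) (.leaf [4, 6, 3, 5, 7] 27 3 false))) (.node (.node (.node (.leaf [2] 1 0 false) (.leaf [5, 9, 2, 3, 9, 4, 1, 3] 53 6 false)) (.node (.leaf [3] 3 1 false) (.leaf [10] 10 1 false))) (.node (.node (.leaf [9, 2, 10, 4, 11, 0, 5, 0] 67 3 false) (.leaf [0, 9, 0, 8, 3, 11, 4, 0] 54 1 false)) (.leaf [7] 6 0 false))))) (.node (.node (.node (.node (.node (.leaf [1, 7, 9, 1, 5, 3, 3, 7, 5] 66 5 true) (.leaf [7, 1, 3, 5, 4, 2] 44 5 false)) (.node (.leaf [4] 3 0 false) (.leaf [11] 10 0 false))) (.node (.node (.leaf [0, 7, 3, 3, 0, 2, 7, 3] 58 4 false) (.leaf [4, 1, 3, 8, 5, 9, 2, 3] 53 2 false)) (.leaf [6, 5, 8, 3, 6, 4] 34 4 true))) (.node (.node (.node (.leaf [11, 2, 5, 11, 5, 4, 10] 45 5 true) (.leaf [7, 4, 4, 7, 8, 4] 31 1 false)) (.node (.leaf [3] 3 1 false) (.leaf [10] 10 1 false))) (.node (.node (.leaf [4] 3 0 false) (.leaf [8] 8 1 false)) (.leaf [2, 11, 4,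 7, 9, 4, 2, 9, 5] 64 3 false)))) (.node (.node (.node (.node (.leaf [0] 0 0 false) (.leaf [6] 6 1 false)) (.node (.leaf [11, 4, 6, 9, 4, 7] 32 2 false) (.leaf [0, 9, 1, 6, 8, 11, 5, 2] 52 5 true))) (.node (.node (.leaf [1] 1 1 false) (.leaf [9, 9, 9] 14 0 true)) (.leaf [11, 0, 10, 4, 8, 4, 5, 0, 11] 63 2 false))) (.node (.node (.node (.leaf [2] 1 0 false) (.leaf [9] 8 0 false)) (.leaf [10, 5, 0, 1, 8, 2, 0, 7] 57 1 true)) (.node (.node (.leaf [5, 3, 5, 7, 3, 5] 22 2 false) (.leaf [7, 7, 10, 9, 7] 20 2 false)) (.leaf [7] 6 0 false))))))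
noncomputable def tS : Tr := (.leaf (nat_lit 0xfffd131a85436ab1057a9055dfa594e15b534496cffffe77549a9e72ff9e1cd7ea274edaa2ef1f0ac2353ffeabc6c429602ae92a20b4c867d735179ab83e635fff79b52cd95522a5c8b614776432975904e93e14ffffcbee6a0e4b75650765e292758ebd960672260a67ffdb56f9caaab2f55b51de6a13ad1a382f20a408e7fff04b717493c1c41ab9bcbb4543e438a59be766fbfff9f24e010a142d7bb50a23664f113989154b40e2fffcf5214f14a8c3838449050b8232a15e40e677f3fffe3dd18a8854a62307365909838656737e98d4e17ffedf99d291047bae91ab524763b930712203867cbfff07009fe6f22129a3d109c6b476a084d9e6f0ebafffc4503531ef95c88481c046698d37a1d9e87c707fffc3ca0dd393ce8e9513a8888bcb4748f738dc2ad7ffe0dd1254c327c13e565a93c63a0f926c1cef1255fff97a885de3f2e015983765b923b278cf823af0e9fffa91128b43b45f2c123dc0dc4923de980420f7b7fffe7b32a76fcb64ebab18142d8371610ea7a6dd27ffff2a7a1f10e493b1e6586cc466e710f52d0ad01b9fff2de23501b61a434144463004a9680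06a45631dcfff8368b4040aa51b741b910468a5cf66a288c3a1f7ffd59247646639115a4b4e8293c4d1a21dd06ca8ebfff14d734c6c5cc52458f0c9c6222d9106c8909b11fff4cfd11e0453797c43c91cb329180da8fd9720d9fffcc4a622dfe810b7ddb26cb5744b9159700d8555fffea2cabeaefd2ce4acd8e65a2e1495839f6378363ffe9b31d0035d2eec616c53b01bf30de5ca34154c3fff840c61e29708782642c01ae7f5928a3bdf2f248fffc08a18af177c83e0dfce4909be835dd40f9e82ffffd328d1a63f5139a5cb3e5c8a62957a0d72353cc3ffed29662c1f97bb180664c619d6517d137035856dfff40618b115e8a72c583549ee5fd4ea9ba0d0871ffff955c9e6d0c22e8354986a078c0cac24993e065d7ffdf62fb72a71801bea6f485b8356186d85207148fffe45c2314f910833e258215a4ad057013d03548d5fff706ac808424145f983514d067979b30f5672df9fffc49d420e307c1a7ad22ceb24eaa46c39c0d44cafffdc6ae4a6ad4628fbc8af78bbfcde3a0d4119b923ffe41259f350abb4d4460c2cd81a69906213499bb1fff4a621e263477e9f22171acce6792690201a695efffb442706803769ad7d8b80d21a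9be29580e0155a7ffdbd4d0916516e9888ffc51dac349880d2461349fffe991068982c9189f421027f52946e469828fd5abfff0e38341e6e41b2428eed010da6433b0b1a5edeafff834045834d1a690816404484ca27d96f0ff655dfffd98c9941db2949c1cf9e174834120e2741bf28d3ffec3f9bc3465afad398a5b4bdbef2442610341407fff4992829d8494a42f2499a5c908499d1056560d0fff8d2cf2a484437833c3307784680efd246e62795fffd67544e95e107aa2e1f33eda65c19eae856ea73bffe9054fea5a539d2bba57a32166cb3a3f7833d49dfff5ca2d45396aed561a98525aa0145122c8fca0cffff888819c86033c8ca475e41741f14712550c7593fffc32c2870670e4095a9c12299e5689d2bb4c7a6d7ffe38b0cd0eec7762c60670d5a7d2bb354aade56dbfff9f3b60c9188c70670b188f051b45087c9e3ee4dfffa17476e1f1161905cc0a9bf9c203392964ac0d1fffc9fc4894fd35111988cc3ca833941493641f22f3ffe803461992ce2666b3889fe9ffe7360dc033968dfff3159498340d8b40632e88dc45e4d9833843ab2bfff8c5041885b45f9fbd4ce8ea3fa068e9448cb0677ffc3460cd4a797f8fea2cc1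d51172a1848e65ea7d7ffecba6f5318419a77b3c93b30ef487c58e87f50a1fff29c1670b7445a066b97c59b4a842dc93964e85efff8ab196a2700d489e27c00cd1998cc07382d00f87ffc8143a6333126c73632e2081c9c19a20117e8b47ffe3a51a08d0474a3a5204a6e419a684664b3004ddfff0d783326f0deba210b7c5a443e19c8e3c9101effff83304291143e106a8f272544cf9b18ee686559dfffdda2fe715842d01982af690290880a4f61fb93c7fff4458f0c2ce48aadd79883308d4ac6874c536179fff218ab7d3a28f472f86566f0d9806607b85e47f5fff85180cf44288a47244a32b618c478c5564320a27ffc0ce1ab0c4c7bd33e21328385115543fd4320623ffe24b88a085c0ce1410c384f87481860c2891163bfff13f86100ce2170c184c0722ba60d505006861abfffc11827aa0d4a021c881406785a050958aad83747ffc9e213c12ec44440a13e1a0069c0ce2021808b77ffe1820c0850434a1800d4cc340cee5b43211984f5fff09d0e444880665caae9c2fe4860bf0d0c35017dfff84c44340660be155cc40ac610d8e9c27e1a310ffffc9b017b40637a834c0660d4c5e49b04542a4ab6bffe1a77bf13cc4d0066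0d30d114d899f0bd05e42f1fff0d313c440a21c1a304ec0cc2df20705dd7e0176fffa29d0869400ba8680fea1740b981988d41722dd7ffc7221a426a0d6874c87209d0198e5a17113704c3ffe3fc19720454881700b7900026016e0b689e80cdfff09b819482c3280b604dd00626146605ac2d4ac2fff819433879536686717e68664cb05a42d034009afffc4422c34c8819450834d0b3a4b0ffe7fa0b3296bffe1654c881953ea6cd1d98b150c02c813eac74337fff0b2058c72013211381942685a70b105847f4160fff8ca882a34b52c01942be4160af13702ba7270ae7ffc2b62220cc05682b2158032855c2ac1550aa054fffe1520d185444142100a8053c29c14d098019425ffff0a6052c2601940d405282921480ce819432a19efff838c1c40e1070032c25e0df06f03741940000cafffc25c0ca06e036c1b40d906c035c1ac0000978357ffe0d406983481a20d006783384b21f50668330001fff00000000000000000000000000000019c0cc065))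
noncomputable def tJ : Tr := (.leaf (nat_lit 0x1c05cb4cca4e91911218e04028450a04d60c001b4d2005564a95578807d10080005805922c05c278b22b0005975922c05c278b23004000024a04d8cc481a4d2005564b15578987c00180000155c02c084278b2311c050b4ccb841c70100ce10001429150982e44040004021100a08d7cc481b802c0bc83090d66d774e29718038a00026f7800c034028006a35000821618f4162c0a803000146d500e28218014a64d02a7942c03401403536044c0b9370d3c010031228f01576e4400000004c05c00005c56cb02e240490bc53507005440122c0b080c00d46d200029304029150e040611681b4d08044038001369006d01100040058001264060b3ad04000000e011600001acd0000050000005c000b02b240010a4535000054001014014000d3c0a4e0000000c0000540440580a430000803c00003c000d06908004000a50a00000c001a801803803c826600b5003401c000b4cc98e4c000000e10000844000002600030304028e44000d00000198118000d3c827024a00804004000000004d500481c0d08000038040000003000010030000058057144908c04000000a1800000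01c401402c02c03c0b8600a00b08034038038048002e08028006f34028c2000002c028006c0020084403c00052c0b000c900000000000a1003c028000042c38900904028030000f00f641b000001400002c00001c002c1c024b000b443c00001540c0000000000389b40008040200200040340581b4000000024034000030022d28006b18028a280246000240180ac500000000000018014a00026b0000080001c0000000ac02c00000000c01c000700b000ac00051000002c030032b0000000400001c80000002c1ac008000010034000602b00000000914000000720c26b28006700200820000000220010c0271c90000011401c01004869c01c00000461400000041009c50000400c00070001472409c300010000508018002700400328006800b0001400c00002c0a000000c60001800001c0004000a004c81000c0140000000480a004020150c0000200006000a000072800670090000000000042c09c00000000030050802000000270801000000032400009c50051800040801400040002409c008000f0c00030000030009c30001000000800000275c00032000c8028000001000000240080a000000000020001801400000280000000001c000f000a040004c00001400000c0002a041402800c0007000000000a000001000000000000e81c00030000064000000020000282800660020010013400002c09800000000000001022000021e62000002870002400009802400860000001800000010260400001c01c0000000980200100180140000000000980000000040000003000000001981080000040000000026000040000000040000001980080001000000000026000000000000000000040026000965965965965940000))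
noncomputable def tQ : Tr := (.leaf (nat_lit 0x0))
noncomputable def tR : TC.WTr := (.node (.node (.node r0 r1) (.node r2 r3)) (.node (.node r4 r5) (.node r6 r7)))
def hl : List ℕ := [3, 4, 4, 3, 5, 6, 7, 7, 6, 8, 9, 9, 8, 10, 11, 11, 10]
def B : List (List ℕ) := [[0, 0], [1, 2], [2, 1], [3, 4], [4, 3], [5, 5], [6, 7], [7, 6], [8, 9], [9, 8], [10, 11], [11, 10], [10, 10, 10], [6, 6, 6, 6], [8, 8, 8, 8], [6, 9, 6, 9, 11], [6, 8, 6, 8, 6, 8, 6, 8, 6, 8, 6, 8, 6, 8, 6, 8, 6, 8, 6, 8, 6, 8, 6, 8], [6, 8, 7, 9, 6, 8, 7, 9, 6, 8, 7, 9, 6, 8, 7, 9, 6, 8, 7, 9, 6, 8, 7, 9], [6, 9, 6, 9, 6, 9, 6, 9, 6, 9, 6, 9], [8, 6, 9, 10, 7, 11], [9, 7, 10, 7, 7, 10], [3, 3, 3, 3, 3, 3, 3], [3, 5, 3, 5, 3, 5, 7], [4, 5, 4, 4, 4, 5, 4, 4, 9], [3, 5, 3, 5, 3, 5, 3, 5, 3, 5, 3, 5, 3, 5, 3, 5, 3, 5, 3, 5, 3, 5, 3, 5], [3, 5, 4, 5, 3, 5, 4, 5], [4, 8, 4, 8, 4, 8], [3, 5, 7, 5, 4, 6], [5, 9, 5, 10,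 9, 11, 7], [4, 10, 6, 4, 10, 8, 11], [5, 3, 5, 4, 8, 10, 6], [4, 8, 7, 4, 4, 7, 8], [4, 7, 4, 11, 4, 6, 9], [5, 11, 9, 6, 5, 7, 11], [5, 7, 5, 3, 7, 4, 9], [3, 6, 8, 6, 3, 6, 8, 6], [3, 5, 10, 3, 11, 4, 11, 6], [1, 1, 1], [2, 0, 1, 0, 4], [1, 0, 1, 0, 2, 0, 2, 0, 2, 0, 2, 0, 1, 0, 2, 5], [0, 1, 0, 1, 0, 1, 0, 1, 0, 1, 0, 1, 0, 1, 0, 1, 0, 1, 0, 1], [0, 1, 0, 2, 0, 1, 0, 2, 0, 1, 0, 2, 0, 1, 0, 2, 0, 1, 0, 2, 0, 1, 0, 2, 0, 1, 0, 2], [0, 2, 0, 2, 0, 2, 0, 2, 0, 2, 0, 2, 0, 2, 0, 2, 0, 2, 0, 2], [2, 7, 1, 4, 6, 4, 4], [1, 3, 5, 4, 2, 7, 7], [1, 10, 2, 11, 3, 5, 10, 5], [2, 8, 2, 8, 2, 8], [0, 7, 5, 6, 0, 7, 5, 6], [1, 6, 11, 5, 1, 6, 11, 5], [2, 10, 4, 9, 1, 6, 4, 7, 9], [2, 3, 6, 8, 1, 11, 3, 10, 8], [0, 8, 3, 10, 0, 3, 11, 4, 9], [2, 8, 0, 10, 1, 5, 10, 9, 7], [2, 3, 9, 4, 1, 3, 8, 5, 9], [0, 10, 0, 9, 0, 8, 3, 11, 4], [1, 8, 2, 9, 2, 5, 3, 9, 5], [1, 5, 11, 3, 1, 11, 5,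 11, 3], [0, 1, 9, 2, 0, 5, 11, 5, 6], [0, 2, 7, 3, 2, 0, 7, 3, 3], [2, 4, 4, 5, 1, 8, 5, 11, 7, 4], [2, 4, 6, 6, 2, 5, 11, 7, 3, 6], [1, 8, 11, 1, 0, 5, 4, 9, 5, 4], [1, 4, 7, 5, 2, 9, 3, 5, 10, 6], [0, 11, 6, 11, 0, 10, 4, 8, 4, 5], [2, 9, 5, 6, 2, 11, 4, 7, 9, 4], [0, 7, 8, 5, 0, 9, 10, 7, 4, 4], [2, 8, 6, 2, 0, 5, 6, 4, 4, 5], [0, 5, 0, 3, 9, 2, 10, 4, 11], [1, 8, 0, 3, 5, 0, 10, 3, 11], [0, 5, 1, 9, 5, 2, 11, 6, 3, 11], [0, 5, 8, 11, 5, 0, 4, 8, 5, 9]]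
def subs : List (List ℕ) := [[3], [4], [5], [6], [7], [8], [9], [10], [11]]
def ex : List (List ℕ) := []
def inv (x : ℕ) : ℕ := [0, 2, 1, 4, 3, 5, 7, 6, 9, 8, 11, 10].getD x 0
noncomputable def rS : ℕ → ℕ := rowOf tS (nat_lit 7) (nat_lit 127) (nat_lit 169) (nat_lit 748288838313422294120286634350736906063837462003711)
noncomputable def rJ : ℕ → ℕ := rowOf tJ (nat_lit 7) (nat_lit 127) (nat_lit 84) (nat_lit 19342813113834066795298815)
noncomputable def C : TC.Cfg where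
  S := look rS (nat_lit 13) (nat_lit 8191)
  J := look rJ (nat_lit 6) (nat_lit 63)
  Q := lookQ tQ (nat_lit 7) (nat_lit 1) (nat_lit 1)
  R := tR.get
  hl := fun x => hl.contains x
  n := (nat_lit 100)
  M := (nat_lit 100)
  top := (nat_lit 5600)
  nl := (nat_lit 12)
  need := (nat_lit 12)
  nr := (nat_lit 37)
theorem k0 : TC.chkRange C 0 2 = true := by decide +kernel
theorem rows0 : ∀ c < (0 + 2) * 64, c < C.M → TC.chkRow C c = true :=
  TC.rows_step (TC.rows_zero C) k0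
theorem main {G : Type*} [Group G] (g : ℕ → G) (hB : ∀ r ∈ B, ev g r = 1) (H : Subgroup G)
    (hH : ∀ w ∈ subs, ev g w ∈ H) :
    H.relIndex (Subgroup.closure (g '' {x | x < 12})) ≠ 0 ∧
      H.relIndex (Subgroup.closure (g '' {x | x < 12})) ≤ 100 :=
  TC.index_le C B subs ex inv hl tR.hint rfl (by decide +kernel) (by decide +kernel)
    (TC.rows_done rows0 (by decide +kernel)) g hB H hH
end H0.TCJ2p0
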